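import Groth.Agent.ValPruferCoh.Basic
import Groth.Agent.PerfGen.PnFlat
import Groth.Agent.SerrePn.ClosedTwist
import Groth.Agent.S1178
import Groth.Agent.LimDesc.FPCancel
import Groth.Agent.DerPerf.Tensor
import Groth.Agent.ResDesc.ResProp
import Groth.Agent.TMul.Pullback

/-!
# Serre vanishing over Prüfer domains
-/

set_option autoImplicit false
set_option linter.style.haveILetI false
set_option linter.unusedSectionVars false
set_option backward.isDefEq.respectTransparency false
set_option backward.isDefEq.respectTransparency.types false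

universe u

open CategoryTheory CategoryTheory.Limits AlgebraicGeometry TopologicalSpace Opposite

noncomputable section

namespace Groth.Agent.ValPruferCoh

attribute [local instance] Abelian.hasFiniteBiproducts

variable (n : ℕ) {R : Type u} [CommRing R] [IsDomain R]

/-- sums of twists are finitely presented -/
theorem isFP_sum_twist {l : ℕ} (d : ℤ) :
    CohB1.IsFP (⨁ fun _ : Fin l => Twist.twistProjSpace n R d) :=
  LocFree.isFP_of_isFinLocFree (DerPerf.isFinLocFree_of_isColimit (Finset.univ : Finset (Fin l))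
    (c := Cofan.mk _ fun j => biproduct.ι (fun _ : Fin l => Twist.twistProjSpace n R d) j)
    (biproduct.isColimit _) (fun i hi => absurd (Finset.mem_univ i) hi)
    (fun _ _ => ResDesc.isFinLocFree_of_isInvertible (CohFinite.isInvertible_twist n R d)))

variable (hR : IsPrufer R)
include hR

/-- Serre vanishing on projective space over a Prüfer domain, one degree at a time. -/
theorem vanish_projSpace_deg (p : ℕ) (F : (CohB1.ProjSpace n R).Modules) (hF : CohB1.IsFP F) :
    ∃ m₀ : ℕ, ∀ m, m₀ ≤ m → Subsingleton (Coh.HH (CohB1.ProjSpace n R)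
      (CohB1.tensorMod F (CohB1.tensorPow (Twist.twistProjSpace n R 1) m)) (p + 1)) := by
  haveI := (PerfGen.flat_lfp_toSpec n R).2
  suffices h : ∀ (k p : ℕ) (F : (CohB1.ProjSpace n R).Modules), CohB1.IsFP F → n ≤ p + k → ∃ m₀ : ℕ, ∀ m, m₀ ≤ m →
      Subsingleton (Coh.HH (CohB1.ProjSpace n R)
        (CohB1.tensorMod F (CohB1.tensorPow (Twist.twistProjSpace n R 1) m)) (p + 1)) from
    h n p F hF (by omega)
  intro k
  induction k with
  | zero =>
    intro p F hF hp
    haveI := hF
    refine ⟨0, fun m _ => ?_⟩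
    have : Coh.IsQCoh (CohB1.tensorMod F (CohB1.tensorPow (Twist.twistProjSpace n R 1) m)) :=
      TMul.isQCoh_tensor (CohFinite.isInvertible_twistPow n R m)
    exact Groth.Agent.S0022.result n R _ (p + 1) (by omega)
  | succ k ih =>
    intro p F hF hp
    haveI := hF
    obtain ⟨N, hN⟩ := GrT.exists_epi_twists
      (v := fun i : ProjCech.J.{u} n => (MvPolynomial.X i.down : MvPolynomial (Fin (n + 1)) R))
      (fun i => MvPolynomial.isHomogeneous_X R i.down) (F := F) inferInstance inferInstance (CohFinite.cov_X n R)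
    obtain ⟨l, q, hq⟩ := hN N le_rfl
    let T : Fin l → (CohB1.ProjSpace n R).Modules := fun _ => Twist.twistProjSpace n R (-(N : ℤ))
    let q' : ⨁ T ⟶ F := (biproduct.isoCoproduct T).hom ≫ q
    have : Epi q' := epi_comp _ _
    have hT : CohB1.IsFP (⨁ T) := isFP_sum_twist n _
    haveI := hT
    have hK : CohB1.IsFP (kernel q') :=
      isFP_kernel hR (CohB1.ProjSpace.toSpec n R) (T := ⨁ T) (F := F) inferInstance inferInstance hT hF q'
    have hS : (ShortComplex.mk (kernel.ι q') q' (kernel.condition q')).ShortExact :=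
      { exact := ShortComplex.exact_of_f_is_kernel _ (kernelIsKernel q') }
    obtain ⟨m₁, hm₁⟩ := ih (p + 1) (kernel q') hK (by omega)
    refine ⟨max m₁ N, fun m hm => ?_⟩
    refine CohFinite.subsingleton_of_shortExact (CohFinite.shortExact_tmap (CohFinite.isInvertible_twistPow n R m) hS)
      (p + 1) ?_ (hm₁ m (le_trans (le_max_left _ _) hm))
    refine CohFinite.subsingleton_of_split _
      (fun _ : Fin l => CohB1.tensorMod (Twist.twistProjSpace n R (-(N : ℤ)))
        (CohB1.tensorPow (Twist.twistProjSpace n R 1) m))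
      (fun j => CohFinite.tmap (biproduct.ι T j) _) (fun j => CohFinite.tmap (biproduct.π T j) _) ?_ (p + 1)
      fun j => ?_
    · simp only [← CohFinite.tmap_comp]
      exact (CohFinite.tmap_sum _ _ _).symm.trans ((congrArg (fun ψ => CohFinite.tmap ψ _) biproduct.total).trans
        (CohFinite.tmap_id _ _))
    · obtain ⟨e⟩ := CohFinite.nonempty_twist_tensorPow n R (-(N : ℤ)) m
      refine CohQC.hh_subsingleton_of_iso e.symm _ (ProjCech.twist_vanish n _ _ (by omega) ?_)
      have := le_trans (le_max_right m₁ N) hm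
      omega

/-- Serre vanishing on projective space over a Prüfer domain. -/
theorem vanish_projSpace (F : (CohB1.ProjSpace n R).Modules) (hF : CohB1.IsFP F) :
    ∃ m₀ : ℕ, ∀ m, m₀ ≤ m → ∀ p : ℕ, Subsingleton (Coh.HH (CohB1.ProjSpace n R)
      (CohB1.tensorMod F (CohB1.tensorPow (Twist.twistProjSpace n R 1) m)) (p + 1)) := by
  choose f hf using fun p => vanish_projSpace_deg n hR p F hF
  refine ⟨(Finset.range n).sup f, fun m hm p => ?_⟩
  by_cases hp : p < n
  · exact hf p m (le_trans (Finset.le_sup (Finset.mem_range.mpr hp)) hm)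
  · haveI := hF
    have : Coh.IsQCoh (CohB1.tensorMod F (CohB1.tensorPow (Twist.twistProjSpace n R 1) m)) :=
      TMul.isQCoh_tensor (CohFinite.isInvertible_twistPow n R m)
    exact Groth.Agent.S0022.result n R _ (p + 1) (by omega)

variable {X : Scheme.{u}} (ι : X ⟶ CohB1.ProjSpace n R) [IsClosedImmersion ι]
  [Flat (ι ≫ CohB1.ProjSpace.toSpec n R)]

omit hR in
theorem lfp_comp : LocallyOfFinitePresentation (ι ≫ CohB1.ProjSpace.toSpec n R) := by
  haveI := (PerfGen.flat_lfp_toSpec n R).2
  exact Groth.Agent.S0429.result (ι ≫ CohB1.ProjSpace.toSpec n R)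

/-- Serre vanishing on flat closed subschemes of projective space over a Prüfer domain. -/
theorem exists_vanish_closed (F : X.Modules) (hF : CohB1.IsFP F) :
    ∃ N : ℕ, ∀ m : ℕ, N ≤ m → ∀ p : ℕ, Subsingleton (Coh.HH X (CohB1.tensorMod F (CohB1.tensorPow
      ((Scheme.Modules.pullback ι).obj (Twist.twistProjSpace n R 1)) m)) (p + 1)) := by
  haveI := hF
  haveI := lfp_comp n ι
  haveI := (PerfGen.flat_lfp_toSpec n R).2
  haveI := LimDesc.lfp_of_comp ι (CohB1.ProjSpace.toSpec n R)
  have hP : CohB1.IsFP ((Scheme.Modules.pushforward ι).obj F) := (Groth.Agent.S1178.result ι F).1 hF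
  obtain ⟨m₀, hm⟩ := vanish_projSpace n hR _ hP
  letI : X.Over (Spec (CommRingCat.of R)) := ⟨ι ≫ CohB1.ProjSpace.toSpec n R⟩
  refine ⟨m₀, fun m hle p => ?_⟩
  obtain ⟨e⟩ := SerrePn.nonempty_hh_pushTwist R ι rfl F (CohFinite.isInvertible_twistPow n R m) (p + 1)
  obtain ⟨i⟩ := TMul.nonempty_pullPowIso ι (Twist.twistProjSpace n R 1) m
  exact CohQC.hh_subsingleton_of_iso (PicGrp.tensorModIso (Iso.refl F) i.symm) (p + 1) (e.toEquiv.subsingleton_congr.2 (hm m hle p))

end Groth.Agent.ValPruferCoh

end
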