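import Groth.Agent.ValPruferCoh.Vanish
import Groth.Agent.SiteCoh.Terminal
import Groth.Agent.CohFinite.Linear

/-!
# Surjectivity of twisted global sections over Prüfer domains
-/

set_option autoImplicit false
set_option linter.style.haveILetI false
set_option linter.unusedSectionVars false
set_option backward.isDefEq.respectTransparency false
set_option backward.isDefEq.respectTransparency.types false

universe u

open CategoryTheory CategoryTheory.Limits AlgebraicGeometry TopologicalSpace Opposite MonoidalCategory

noncomputable section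

namespace Groth.Agent.ValPruferCoh

attribute [local instance] Abelian.hasFiniteBiproducts

/-- sheafified whiskering is `tmap` -/
theorem sheafify_whiskerRight_eq {X : Scheme.{u}} {F G : X.Modules} (φ : F ⟶ G) (L : X.Modules) :
    (CohB1.sheafifyMod X).map (MonoidalCategoryStruct.whiskerRight (C := CohB1.PMod X) φ.val (CohB1.toPMod L)) =
      CohFinite.tmap φ L := by
  refine TMul.hom_ext fun U m l => ?_
  refine Eq.trans ?_ (CohFinite.tmap_tm φ L m l).symm
  have h := (PresheafOfModules.sheafificationAdjunction (𝟙 X.ringCatSheaf.obj)).unit.naturality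
    (show (CohB1.tensorPre F L : X.PresheafOfModules) ⟶ CohB1.tensorPre G L from
      MonoidalCategoryStruct.whiskerRight (C := CohB1.PMod X) φ.val (CohB1.toPMod L))
  exact (congr($(h).app (op U) (m ⊗ₜ l))).symm

/-- without first cohomology in the kernel, global sections lift -/
theorem surjective_top {X : Scheme.{u}} {S : ShortComplex X.Modules} (hS : S.ShortExact)
    (h : Subsingleton (Coh.HH X S.X₁ 1)) : Function.Surjective (S.g.app ⊤) := by
  haveI : Subsingleton (CohSite.HU (Coh.toAb S.X₁) 1 (⊤ : X.Opens)) := by
    haveI := h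
    exact (SiteCoh.huTerminalEquiv (Opens.grothendieckTopology X) (T := (⊤ : X.Opens)) isTerminalTop
      (Coh.toAb S.X₁) 1).symm.toEquiv.subsingleton
  exact @SiteCoh.sections_surjective _ _ _ _ (CohFinite.shortExact_toAb hS) (⊤ : X.Opens) ‹_›

variable (n : ℕ) {R : Type u} [CommRing R] [IsDomain R] (hR : IsPrufer R)
  {X : Scheme.{u}} (ι : X ⟶ CohB1.ProjSpace n R) [IsClosedImmersion ι]
  [Flat (ι ≫ CohB1.ProjSpace.toSpec n R)]

include hR in
/-- epimorphisms of fp modules are surjective on global sections of large twists -/
theorem exists_surjective_closed (F G : X.Modules) (hF : CohB1.IsFP F) (hG : CohB1.IsFP G) (φ : F ⟶ G) [Epi φ] :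
    ∃ N : ℕ, ∀ m : ℕ, N ≤ m → Function.Surjective ((CohFinite.tmap φ (CohB1.tensorPow
      ((Scheme.Modules.pullback ι).obj (Twist.twistProjSpace n R 1)) m)).app ⊤) := by
  haveI := hF
  haveI := hG
  haveI := lfp_comp n ι
  have hK := isFP_kernel hR (ι ≫ CohB1.ProjSpace.toSpec n R) (T := F) (F := G) inferInstance inferInstance hF hG φ
  have hS : (ShortComplex.mk (kernel.ι φ) φ (kernel.condition φ)).ShortExact :=
    { exact := ShortComplex.exact_of_f_is_kernel _ (kernelIsKernel φ) }
  obtain ⟨N, hN⟩ := exists_vanish_closed n hR ι (kernel φ) hK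
  exact ⟨N, fun m hm => surjective_top
    (CohFinite.shortExact_tmap (TMul.isInvertible_tensorPow (PicLoc.isInvertible_pullback ι
      (CohFinite.isInvertible_twist n R 1)) m) hS) (hN m hm 0)⟩

end Groth.Agent.ValPruferCoh

end
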