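import Groth.Agent.RG.FiniteType
import Groth.Agent.DRingKP.Coherent
import Groth.Agent.S6366
import Groth.Agent.S0429
import Groth.Agent.LocFree.Props
import Groth.Agent.FittLib.StrictTransform2
import Groth.Agent.CohFinite.Serre
import Mathlib.RingTheory.Flat.TorsionFree

/-!
# Coherence over Prüfer domains
-/

set_option autoImplicit false
set_option linter.style.haveILetI false
set_option backward.isDefEq.respectTransparency false
set_option backward.isDefEq.respectTransparency.types false

universe u

open CategoryTheory CategoryTheory.Limits AlgebraicGeometry TopologicalSpace Opposite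
open Groth.Agent.QC
open scoped TensorProduct

noncomputable section

namespace Groth.Agent.ValPruferCoh

/-- Prüfer domains -/
def IsPrufer (R : Type u) [CommRing R] [IsDomain R] : Prop :=
  ∀ (p : Ideal R) [p.IsPrime], ValuationRing (Localization.AtPrime p)

variable {R : Type u} [CommRing R] [IsDomain R]

/-- finitely generated ideals of polynomial rings over Prüfer domains are finitely presented -/
theorem fp_ideal_poly (hR : IsPrufer R) (σ : Type u) [Finite σ] (I : Ideal (MvPolynomial σ R)) (hI : I.FG) :
    Module.FinitePresentation (MvPolynomial σ R) I := by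
  haveI : Module.Finite (MvPolynomial σ R) I := Module.Finite.iff_fg.2 hI
  haveI : Module.Flat R I := by
    rw [Module.Flat.flat_iff_torsion_eq_bot_of_valuationRing_localization_isMaximal (fun P hP => hR P),
      eq_bot_iff]
    rintro ⟨x, hx⟩ hx0
    obtain ⟨r, hr⟩ := (Submodule.mem_torsion_iff _).1 hx0
    have hr' : (r : R) • x = 0 := congrArg Subtype.val hr
    refine (Submodule.mem_bot R).2 (Subtype.ext (MvPolynomial.ext _ _ fun m => ?_))
    have := congrArg (MvPolynomial.coeff m) hr'
    rw [MvPolynomial.coeff_smul, MvPolynomial.coeff_zero, smul_eq_mul] at this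
    exact (mul_eq_zero.1 this).resolve_left (nonZeroDivisors.ne_zero r.2)
  exact RG.finitePresentation_of_flat_ft (R := R) (S := MvPolynomial σ R) I

/-- finitely presented algebras over Prüfer domains are coherent -/
theorem isCoh_of_fp (hR : IsPrufer R) {A : Type u} [CommRing A] [Algebra R A] [Algebra.FinitePresentation R A] :
    DRingKP.IsCoh A := by
  intro I hI
  obtain ⟨n, f, hf, hker⟩ := Algebra.FinitePresentation.out (R := R) (A := A)
  let e : MvPolynomial (ULift.{u} (Fin n)) R ≃ₐ[R] MvPolynomial (Fin n) R := MvPolynomial.renameEquiv R Equiv.ulift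
  let B := MvPolynomial (ULift.{u} (Fin n)) R
  let g : B →ₐ[R] A := f.comp e.toAlgHom
  have hg : Function.Surjective g := hf.comp e.surjective
  have hgk : (RingHom.ker g.toRingHom).FG := by
    have : RingHom.ker g.toRingHom = Ideal.map e.symm.toRingHom (RingHom.ker f.toRingHom) := by
      ext z
      rw [Ideal.mem_map_iff_of_surjective e.symm.toRingHom e.symm.surjective]
      exact ⟨fun hz => ⟨e z, hz, e.symm_apply_apply z⟩, by rintro ⟨w, hw, rfl⟩; show f (e (e.symm w)) = 0; rw [e.apply_symm_apply]; exact hw⟩
    rw [this]
    exact hker.map _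
  letI : Algebra B A := g.toRingHom.toAlgebra
  have hB : ∀ J : Ideal B, J.FG → Module.FinitePresentation B J := fun J hJ => fp_ideal_poly hR _ J hJ
  haveI : Module.FinitePresentation B A :=
    Module.finitePresentation_of_surjective (Algebra.linearMap B A) hg hgk
  haveI : Module.Finite A I := Module.Finite.iff_fg.2 hI
  haveI : Module.Finite B I := Module.Finite.trans A I
  haveI := ((S6366.result B hB A).2 inferInstance).2 (I.restrictScalars B) (Module.Finite.iff_fg.1 ‹Module.Finite B I›)
  haveI : Module.FinitePresentation B I := ‹Module.FinitePresentation B (I.restrictScalars B)›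
  refine Module.FinitePresentation.of_equiv (LinearEquiv.ofBijective
    ((LinearMap.id : I →ₗ[B] I).liftBaseChange A) ⟨fun s t hst => ?_, fun m => ⟨1 ⊗ₜ m, by simp⟩⟩)
  have hs : ∀ s : A ⊗[B] I, s = 1 ⊗ₜ ((LinearMap.id : I →ₗ[B] I).liftBaseChange A s) := fun s => by
    induction s using TensorProduct.induction_on with
    | zero => simp
    | tmul a m =>
      obtain ⟨b, rfl⟩ := hg a
      rw [LinearMap.liftBaseChange_tmul, LinearMap.id_apply, show g b = b • (1 : A) by
        rw [Algebra.smul_def, mul_one]; rfl, TensorProduct.smul_tmul, smul_assoc, one_smul]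
    | add s t hs ht => rw [map_add, TensorProduct.tmul_add, ← hs, ← ht]
  rw [hs s, hs t, hst]

/-- kernels of maps of finitely presented modules on schemes of finite presentation over Prüfer domains -/
theorem isFP_kernel (hR : IsPrufer R) {X : Scheme.{u}} (f : X ⟶ Spec (CommRingCat.of R))
    [LocallyOfFinitePresentation f] {T F : X.Modules} (hT : Coh.IsQCoh T) (hF : Coh.IsQCoh F)
    (hT' : CohB1.IsFP T) (hF' : CohB1.IsFP F) (π : T ⟶ F) [Epi π] : CohB1.IsFP (kernel π) := by
  have hK := isQCoh_kernel hT hF π
  refine isFP_iff_exists_hasFinPres.mpr fun x => ?_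
  obtain ⟨V, hV, hxV, -⟩ := exists_isAffineOpen_mem_and_subset (X := X) (x := x) (U := ⊤) trivial
  haveI := hT
  haveI := hF
  haveI := LocFree.finitePresentation_sections_of_isFP hT hT' hV
  haveI := LocFree.finitePresentation_sections_of_isFP hF hF' hV
  have hfp := HasRingHomProperty.appLE @LocallyOfFinitePresentation f inferInstance
    ⟨⊤, isAffineOpen_top _⟩ ⟨V, hV⟩ le_top
  letI : Algebra R Γ(X, V) := ((Scheme.ΓSpecIso (CommRingCat.of R)).inv ≫ f.appLE ⊤ V le_top).hom.toAlgebra
  haveI : Algebra.FinitePresentation R Γ(X, V) := by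
    refine RingHom.finitePresentation_algebraMap.1 ?_
    exact RingHom.FinitePresentation.comp hfp
      (RingHom.FinitePresentation.of_bijective (Scheme.ΓSpecIso (CommRingCat.of R)).symm.commRingCatIsoToRingEquiv.bijective)
  let L : Γ(T, V) →ₗ[Γ(X, V)] Γ(F, V) :=
    { toFun := π.app V
      map_add' := map_add _
      map_smul' := fun r y => π.app_smul r y }
  have hL : Function.Surjective L := app_surjective_of_epi hV hT hF π
  haveI : Module.FinitePresentation Γ(X, V) (LinearMap.ker L) :=
    ((S6366.result Γ(X, V) (isCoh_of_fp hR) Γ(T, V)).2 inferInstance).2 _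
      (Module.FinitePresentation.fg_ker L hL)
  let i : Γ(kernel π, V) →ₗ[Γ(X, V)] Γ(T, V) :=
    { toFun := (kernel.ι π).app V
      map_add' := map_add _
      map_smul' := fun r y => (kernel.ι π).app_smul r y }
  have hir : LinearMap.range i = LinearMap.ker L := by
    ext y
    exact mem_range_kernel_app π V y
  haveI : Module.FinitePresentation Γ(X, V) Γ(kernel π, V) :=
    Module.FinitePresentation.of_equiv ((LinearEquiv.ofInjective i (app_injective_of_mono (kernel.ι π) V)).trans
      (LinearEquiv.ofEq _ _ hir)).symm
  exact ⟨V, hxV, hasFinPres_of_finitePresentation hV (hM := hK)⟩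

end Groth.Agent.ValPruferCoh

end
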